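/-
Partition stabilizers generating the alternating group.
-/
import Mathlib
import Cfsg.Agent.Lib.Alternating.ThreeCycle

set_option autoImplicit false
set_option linter.style.haveILetI false

namespace Cfsg.Agent.Lib.LAEven56.ThreeMinAlt

open Equiv Cfsg.Agent.Lib.Alternating

variable {α : Type*} [Fintype α] [DecidableEq α]

/-- All three-cycles inside `T` lie in `H`. -/
def Good (H : Subgroup (Perm α)) (T : Set α) : Prop :=
  ∀ x ∈ T, ∀ y ∈ T, ∀ z ∈ T, x ≠ y → x ≠ z → y ≠ z → tri x y z ∈ H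

theorem tri_rot {a b c : α} (hab : a ≠ b) (hac : a ≠ c) (hbc : b ≠ c) : tri a b c = tri b c a := by
  refine Equiv.ext fun x => ?_
  by_cases h1 : x = a
  · rw [h1, tri_apply_left hab hbc, tri_apply_right hab.symm hac.symm]
  by_cases h2 : x = b
  · rw [h2, tri_apply_mid, tri_apply_left hbc hac.symm]
  by_cases h3 : x = c
  · rw [h3, tri_apply_right hac hbc, tri_apply_mid]
  rw [tri_apply_of_ne h1 h2 h3, tri_apply_of_ne h2 h3 h1]

theorem tri_inv {a b c : α} (hab : a ≠ b) (hac : a ≠ c) (hbc : b ≠ c) :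
    (tri a b c)⁻¹ = tri c b a := by
  refine inv_eq_of_mul_eq_one_left (Equiv.ext fun x => ?_)
  rw [Perm.mul_apply, Perm.one_apply]
  by_cases h1 : x = a
  · rw [h1, tri_apply_left hab hbc, tri_apply_mid]
  by_cases h2 : x = b
  · rw [h2, tri_apply_mid, tri_apply_left hbc.symm hab.symm]
  by_cases h3 : x = c
  · rw [h3, tri_apply_right hac hbc, tri_apply_right hac.symm hab.symm]
  rw [tri_apply_of_ne h1 h2 h3, tri_apply_of_ne h3 h2 h1]

theorem tri_conj' (σ : Perm α) (a b c : α) : σ * tri a b c * σ⁻¹ = tri (σ a) (σ b) (σ c) := by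
  simp only [tri, swap_apply_apply]
  group

variable {H : Subgroup (Perm α)} {T : Set α}

/-- Moving an unordered pair inside a good set. -/
theorem Good.exists_pair (hT : Good H T) (h3 : 3 ≤ T.ncard) {a b x y : α} (ha : a ∈ T) (hb : b ∈ T)
    (hx : x ∈ T) (hy : y ∈ T) (hab : a ≠ b) (hxy : x ≠ y) :
    ∃ σ ∈ H, (∀ u ∉ T, σ u = u) ∧ ((σ a = x ∧ σ b = y) ∨ (σ a = y ∧ σ b = x)) := by
  have hfix : ∀ {p q r : α}, p ∈ T → q ∈ T → r ∈ T → ∀ u ∉ T, tri p q r u = u :=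
    fun hp hq hr u hu => tri_apply_of_ne (fun e => hu (e ▸ hp)) (fun e => hu (e ▸ hq))
      (fun e => hu (e ▸ hr))
  have hthird : ∀ p q, ∃ r ∈ T, r ≠ p ∧ r ≠ q := by
    intro p q
    obtain ⟨r, hr, hrn⟩ := Set.exists_mem_notMem_of_ncard_lt_ncard (s := ({p, q} : Set α)) (t := T)
      (lt_of_le_of_lt ((Set.ncard_insert_le _ _).trans (by rw [Set.ncard_singleton]))
        (show 2 < T.ncard by omega))
    simp only [Set.mem_insert_iff, Set.mem_singleton_iff, not_or] at hrn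
    exact ⟨r, hr, hrn.1, hrn.2⟩
  -- move `a` to `x`
  obtain ⟨σ₁, hσ₁, hσ₁f, hσ₁a, hσ₁T⟩ : ∃ σ ∈ H, (∀ u ∉ T, σ u = u) ∧ σ a = x ∧ σ b ∈ T := by
    by_cases hax : a = x
    · exact ⟨1, H.one_mem, fun u _ => rfl, hax, hb⟩
    obtain ⟨r, hr, hra, hrx⟩ := hthird a x
    refine ⟨_, hT a ha x hx r hr hax hra.symm hrx.symm, hfix ha hx hr, tri_apply_left hax hrx.symm, ?_⟩
    by_contra h
    have := hfix ha hx hr _ h
    exact h (by rw [(tri a x r).injective this]; exact hb)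
  set b' := σ₁ b with hb'
  have hb'x : b' ≠ x := fun h => hab (σ₁.injective (hσ₁a.trans h.symm))
  by_cases hby : b' = y
  · exact ⟨σ₁, hσ₁, hσ₁f, Or.inl ⟨hσ₁a, hby⟩⟩
  by_cases h4 : 4 ≤ T.ncard
  · obtain ⟨r, hr, hrn⟩ := Set.exists_mem_notMem_of_ncard_lt_ncard (s := ({x, b', y} : Set α)) (t := T)
      (lt_of_le_of_lt ((Set.ncard_insert_le _ _).trans (Nat.add_le_add_right
        ((Set.ncard_insert_le _ _).trans (by rw [Set.ncard_singleton])) 1)) (show 3 < T.ncard by omega))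
    simp only [Set.mem_insert_iff, Set.mem_singleton_iff, not_or] at hrn
    refine ⟨tri b' y r * σ₁, H.mul_mem (hT b' hσ₁T y hy r hr hby (Ne.symm hrn.2.1) (Ne.symm hrn.2.2)) hσ₁,
      fun u hu => by rw [Perm.mul_apply, hσ₁f u hu, hfix hσ₁T hy hr u hu], Or.inl ⟨?_, ?_⟩⟩
    · rw [Perm.mul_apply, hσ₁a, tri_apply_of_ne hb'x.symm hxy (Ne.symm hrn.1)]
    · rw [Perm.mul_apply, ← hb', tri_apply_left hby (Ne.symm hrn.2.2)]
  · refine ⟨tri x y b' * σ₁, H.mul_mem (hT x hx y hy b' hσ₁T hxy hb'x.symm (Ne.symm hby)) hσ₁,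
      fun u hu => by rw [Perm.mul_apply, hσ₁f u hu, hfix hx hy hσ₁T u hu], Or.inr ⟨?_, ?_⟩⟩
    · rw [Perm.mul_apply, hσ₁a, tri_apply_left hxy (Ne.symm hby)]
    · rw [Perm.mul_apply, ← hb', tri_apply_right hb'x.symm (Ne.symm hby)]

/-- One more point. -/
theorem Good.insert (hT : Good H T) (h3 : 3 ≤ T.ncard) {a b z : α} (ha : a ∈ T) (hb : b ∈ T)
    (hab : a ≠ b) (hz : z ∉ T) (hm : tri a b z ∈ H) : Good H (Insert.insert z T) := by
  have key : ∀ x ∈ T, ∀ y ∈ T, x ≠ y → tri x y z ∈ H := by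
    intro x hx y hy hxy
    obtain ⟨σ, hσ, hσf, h | h⟩ := hT.exists_pair h3 ha hb hx hy hab hxy
    · have := H.mul_mem (H.mul_mem hσ hm) (H.inv_mem hσ)
      rwa [tri_conj', h.1, h.2, hσf z hz] at this
    · have := H.inv_mem (H.mul_mem (H.mul_mem hσ hm) (H.inv_mem hσ))
      have hxz : x ≠ z := fun e => hz (e ▸ hx)
      have hyz : y ≠ z := fun e => hz (e ▸ hy)
      rwa [tri_conj', h.1, h.2, hσf z hz, tri_inv hxy.symm hyz hxz,
        tri_rot hxz.symm hyz.symm hxy] at this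
  intro x hx y hy w hw hxy hxw hyw
  rcases Set.mem_insert_iff.1 hx with hxz | hxT
  · have hyT := hy.resolve_left (fun e => hxy (hxz.trans e.symm))
    have hwT := hw.resolve_left (fun e => hxw (hxz.trans e.symm))
    rw [tri_rot hxy hxw hyw, hxz]
    exact key y hyT w hwT hyw
  rcases Set.mem_insert_iff.1 hy with hyz | hyT
  · have hwT := hw.resolve_left (fun e => hyw (hyz.trans e.symm))
    rw [tri_rot hxy hxw hyw, tri_rot hyw hxy.symm hxw.symm, hyz]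
    exact key w hwT x hxT hxw.symm
  rcases Set.mem_insert_iff.1 hw with hwz | hwT
  · rw [hwz]; exact key x hxT y hyT hxy
  · exact hT x hxT y hyT w hwT hxy hxw hyw

/-- Overlapping good sets join. -/
theorem exists_good_union {T₁ : Set α} (h₁ : Good H T₁) (h3 : 3 ≤ T₁.ncard) :
    ∃ T, T₁ ⊆ T ∧ Good H T ∧ ∀ T₂, Good H T₂ → 3 ≤ T₂.ncard → (∃ a ∈ T, a ∈ T₂) → T₂ ⊆ T := by
  classical
  haveI : Nonempty {T : Set α // T₁ ⊆ T ∧ Good H T} := ⟨⟨T₁, subset_rfl, h₁⟩⟩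
  obtain ⟨⟨T, hsub, hgood⟩, hmax⟩ := Finite.exists_max
    (fun T : {T : Set α // T₁ ⊆ T ∧ Good H T} => (T : Set α).ncard)
  refine ⟨T, hsub, hgood, fun T₂ h₂ h₂3 ⟨a, haT, haT₂⟩ z hz => ?_⟩
  by_contra hzT
  have hT3 : 3 ≤ T.ncard := h3.trans (Set.ncard_le_ncard hsub)
  have hbad : ∀ b ∈ T, a ≠ b → tri a b z ∉ H := fun b hb hab hm => by
    have : (Insert.insert z T).ncard ≤ T.ncard :=
      hmax ⟨_, hsub.trans (Set.subset_insert _ _), hgood.insert hT3 haT hb hab hzT hm⟩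
    rw [Set.ncard_insert_of_notMem hzT] at this
    omega
  have haz : a ≠ z := fun e => hzT (e ▸ haT)
  obtain ⟨w, hw, hwn⟩ := Set.exists_mem_notMem_of_ncard_lt_ncard (s := ({a, z} : Set α)) (t := T₂)
    (lt_of_le_of_lt ((Set.ncard_insert_le _ _).trans (by rw [Set.ncard_singleton]))
      (show 2 < T₂.ncard by omega))
  simp only [Set.mem_insert_iff, Set.mem_singleton_iff, not_or] at hwn
  by_cases hwT : w ∈ T
  · exact hbad w hwT (Ne.symm hwn.1) (h₂ a haT₂ w hw z hz (Ne.symm hwn.1) haz hwn.2)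
  obtain ⟨b, hb, hba⟩ := Set.exists_mem_notMem_of_ncard_lt_ncard (s := ({a} : Set α)) (t := T)
    (by rw [Set.ncard_singleton]; omega)
  obtain ⟨b', hb', hb'n⟩ := Set.exists_mem_notMem_of_ncard_lt_ncard (s := ({a, b} : Set α)) (t := T)
    (lt_of_le_of_lt ((Set.ncard_insert_le _ _).trans (by rw [Set.ncard_singleton]))
      (show 2 < T.ncard by omega))
  simp only [Set.mem_insert_iff, Set.mem_singleton_iff, not_or] at hb'n hba
  have hab : a ≠ b := Ne.symm hba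
  have hab' : a ≠ b' := Ne.symm hb'n.1
  have hbb' : b ≠ b' := Ne.symm hb'n.2
  have hbz : b ≠ z := fun e => hzT (e ▸ hb)
  have hb'z : b' ≠ z := fun e => hzT (e ▸ hb')
  have hbw : b ≠ w := fun e => hwT (e ▸ hb)
  have hb'w : b' ≠ w := fun e => hwT (e ▸ hb')
  have hc := hgood a haT b hb b' hb' hab hab' hbb'
  have hd := h₂ a haT₂ z hz w hw haz (Ne.symm hwn.1) (Ne.symm hwn.2)
  have hcd := H.mul_mem (H.mul_mem (H.mul_mem hc hd) (H.inv_mem hc)) (H.inv_mem hd)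
  rw [tri_conj', tri_apply_left hab hbb', tri_inv haz (Ne.symm hwn.1) (Ne.symm hwn.2),
    tri_apply_of_ne haz.symm hbz.symm hb'z.symm, tri_apply_of_ne hwn.1 hbw.symm hb'w.symm] at hcd
  refine hbad b hb hab ?_
  convert hcd using 1
  refine Equiv.ext fun x => ?_
  rw [Perm.mul_apply]
  by_cases e1 : x = a
  · rw [e1, tri_apply_left hab hbz, tri_apply_right (Ne.symm (Ne.symm hwn.1 : a ≠ w)) haz.symm,
      tri_apply_right (hbw) (Ne.symm hwn.2)]
  by_cases e2 : x = b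
  · rw [e2, tri_apply_mid, tri_apply_of_ne hbw hbz hab.symm, tri_apply_left hbz (Ne.symm hwn.2)]
  by_cases e3 : x = z
  · rw [e3, tri_apply_right haz hbz, tri_apply_mid, tri_apply_of_ne hab haz (Ne.symm hwn.1)]
  by_cases e4 : x = w
  · rw [e4, tri_apply_of_ne hwn.1 hbw.symm hwn.2, tri_apply_left hwn.2 haz.symm, tri_apply_mid]
  rw [tri_apply_of_ne e1 e2 e3, tri_apply_of_ne e4 e3 e1, tri_apply_of_ne e2 e3 e4]

/-- A family of sets partitions the points. -/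
def IsPart (𝔅 : Set (Set α)) : Prop := ∀ x, ∃! B, B ∈ 𝔅 ∧ x ∈ B

/-- The stabilizer of a family in the alternating group. -/
def partStab (𝔅 : Set (Set α)) : Subgroup (Perm α) where
  carrier := {g | g ∈ alternatingGroup α ∧ ∀ B, B ∈ 𝔅 ↔ g '' B ∈ 𝔅}
  one_mem' := ⟨one_mem _, fun B => by simp⟩
  mul_mem' {x y} hx hy := ⟨mul_mem hx.1 hy.1, fun B => by
    rw [Perm.coe_mul, Set.image_comp]; exact (hy.2 B).trans (hx.2 _)⟩
  inv_mem' {x} hx := ⟨inv_mem hx.1, fun B => by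
    have hback : ⇑x '' (⇑(x⁻¹) '' B) = B := by simp [← Set.image_comp, ← Perm.coe_mul]
    rw [hx.2 (⇑(x⁻¹) '' B), hback]⟩

theorem IsPart.eq {𝔅 : Set (Set α)} (h : IsPart 𝔅) {x : α} {B B' : Set α} (hB : B ∈ 𝔅) (hx : x ∈ B)
    (hB' : B' ∈ 𝔅) (hx' : x ∈ B') : B = B' := (h x).unique ⟨hB, hx⟩ ⟨hB', hx'⟩

/-- Permutations mapping each part into a part of the family stabilize it. -/
theorem mem_partStab {𝔅 : Set (Set α)} {g : Perm α} (hg : g ∈ alternatingGroup α)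
    (h : ∀ B ∈ 𝔅, g '' B ∈ 𝔅) : g ∈ partStab 𝔅 := by
  refine ⟨hg, fun B => ⟨h B, fun hB => ?_⟩⟩
  obtain ⟨C, hC⟩ := Finite.surjective_of_injective (α := 𝔅) (f := fun C => ⟨g '' C, h C C.2⟩)
    (fun C D e => Subtype.ext (g.injective.image_injective (congrArg Subtype.val e))) ⟨g '' B, hB⟩
  have := g.injective.image_injective (congrArg Subtype.val hC)
  exact this ▸ C.2

/-- Every three-cycle inside a part stabilizes the family. -/
theorem IsPart.good {𝔅 : Set (Set α)} (h : IsPart 𝔅) {B : Set α} (hB : B ∈ 𝔅) :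
    Good (partStab 𝔅) B := by
  intro x hx y hy z hz hxy hxz hyz
  refine mem_partStab (tri_mem_alt hxy hxz hyz) fun C hC => ?_
  have hin : ∀ u, u ∈ B → tri x y z u ∈ B := by
    intro u hu
    by_cases e1 : u = x
    · rw [e1, tri_apply_left hxy hyz]; exact hy
    by_cases e2 : u = y
    · rw [e2, tri_apply_mid]; exact hz
    by_cases e3 : u = z
    · rw [e3, tri_apply_right hxz hyz]; exact hx
    rw [tri_apply_of_ne e1 e2 e3]; exact hu
  by_cases hCB : C = B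
  · rw [hCB, Set.eq_of_subset_of_ncard_le (by rintro _ ⟨u, hu, rfl⟩; exact hin u hu)
      (Set.ncard_image_of_injective B (tri x y z).injective).ge]
    exact hB
  · have hfix : ∀ u ∈ C, tri x y z u = u := fun u hu =>
      tri_apply_of_ne (fun e => hCB (h.eq hC hu hB (e ▸ hx))) (fun e => hCB (h.eq hC hu hB (e ▸ hy)))
        (fun e => hCB (h.eq hC hu hB (e ▸ hz)))
    rw [Set.image_congr hfix, Set.image_id']
    exact hC

/-- A family with a two-point part and a second part is not stabilized by all even permutations. -/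
theorem IsPart.ne_alt {𝔅 : Set (Set α)} (h : IsPart 𝔅) (h4 : 4 ≤ Nat.card α) {B : Set α} (hB : B ∈ 𝔅)
    (h2 : 2 ≤ B.ncard) (hne : B ≠ Set.univ) : ¬ alternatingGroup α ≤ partStab 𝔅 := by
  intro hle
  obtain ⟨x, hx, y, hy, hxy⟩ := (Set.one_lt_ncard (s := B)).1 h2
  obtain ⟨z, hz⟩ := (Set.ne_univ_iff_exists_notMem _).1 hne
  have hyz : y ≠ z := fun e => hz (e ▸ hy)
  obtain ⟨w, -, hw⟩ := Set.exists_mem_notMem_of_ncard_lt_ncard (s := ({x, y, z} : Set α))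
    (t := Set.univ) (by
      rw [Set.ncard_univ]
      refine lt_of_le_of_lt ((Set.ncard_insert_le _ _).trans (Nat.add_le_add_right
        ((Set.ncard_insert_le _ _).trans (by rw [Set.ncard_singleton])) 1)) ?_
      omega)
  simp only [Set.mem_insert_iff, Set.mem_singleton_iff, not_or] at hw
  have hm := hle (tri_mem_alt hyz (Ne.symm hw.2.1) (Ne.symm hw.2.2))
  have himg : tri y z w '' B ∈ 𝔅 := (hm.2 B).1 hB
  have hx' : x ∈ tri y z w '' B :=
    ⟨x, hx, tri_apply_of_ne hxy (fun e => hz (e ▸ hx)) (Ne.symm hw.1)⟩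
  have hz' : z ∈ tri y z w '' B := ⟨y, hy, tri_apply_left hyz (Ne.symm hw.2.2)⟩
  exact hz (h.eq himg hx' hB hx ▸ hz')

/-- An even permutation exchanging two parts of equal size and respecting the family. -/
theorem IsPart.exists_exchange {𝔅 : Set (Set α)} (h : IsPart 𝔅) {B₁ B₂ : Set α} (h₁ : B₁ ∈ 𝔅)
    (h₂ : B₂ ∈ 𝔅) (hne : B₁ ≠ B₂) (hcard : B₁.ncard = B₂.ncard) (h2 : 2 ≤ B₁.ncard) :
    ∃ g ∈ partStab 𝔅, g '' B₁ = B₂ ∧ ∀ x, x ∉ B₁ → x ∉ B₂ → g x = x := by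
  classical
  obtain ⟨φ⟩ : Nonempty (B₁ ≃ B₂) := ⟨(Finite.card_eq.1 (by
    rw [Nat.card_coe_set_eq, Nat.card_coe_set_eq]; exact hcard)).some⟩
  have hd : ∀ x, x ∈ B₁ → x ∉ B₂ := fun x hx hx' => hne (h.eq h₁ hx h₂ hx')
  let f : α → α := fun x => if hx : x ∈ B₁ then (φ ⟨x, hx⟩ : α) else
    if hx' : x ∈ B₂ then (φ.symm ⟨x, hx'⟩ : α) else x
  have f1 : ∀ x (hx : x ∈ B₁), f x = φ ⟨x, hx⟩ := fun x hx => dif_pos hx
  have f2 : ∀ x (hx : x ∈ B₂), f x = φ.symm ⟨x, hx⟩ := fun x hx => by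
    simp only [f, dif_neg (fun h' => hd x h' hx), dif_pos hx]
  have f3 : ∀ x, x ∉ B₁ → x ∉ B₂ → f x = x := fun x hx hx' => by
    simp only [f, dif_neg hx, dif_neg hx']
  have hf : Function.Involutive f := by
    intro x
    by_cases hx : x ∈ B₁
    · rw [f1 x hx, f2 _ (φ ⟨x, hx⟩).2]; simp
    by_cases hx' : x ∈ B₂
    · rw [f2 x hx', f1 _ (φ.symm ⟨x, hx'⟩).2]; simp
    rw [f3 x hx hx', f3 x hx hx']
  let g₀ : Perm α := hf.toPerm f
  obtain ⟨u, hu, v, hv, huv⟩ := (Set.one_lt_ncard (s := B₁)).1 h2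
  obtain ⟨g, hg, hgB, hgfix⟩ : ∃ g ∈ alternatingGroup α, (∀ x ∈ B₁, g x ∈ B₂) ∧
      (∀ x, x ∈ B₂ → g x ∈ B₁) ∧ ∀ x, x ∉ B₁ → x ∉ B₂ → g x = x := by
    rcases Int.units_eq_one_or (Perm.sign g₀) with hs | hs
    · refine ⟨g₀, Perm.mem_alternatingGroup.2 hs, fun x hx => ?_, fun x hx => ?_, f3⟩
      · show f x ∈ B₂; rw [f1 x hx]; exact (φ _).2
      · show f x ∈ B₁; rw [f2 x hx]; exact (φ.symm _).2
    · refine ⟨g₀ * swap u v, Perm.mem_alternatingGroup.2 (by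
        rw [map_mul, hs, Perm.sign_swap huv]; rfl), fun x hx => ?_, fun x hx => ?_, fun x hx hx' => ?_⟩
      · rw [Perm.mul_apply]
        have : swap u v x ∈ B₁ := by
          by_cases e : x = u
          · rw [e, swap_apply_left]; exact hv
          by_cases e' : x = v
          · rw [e', swap_apply_right]; exact hu
          rw [swap_apply_of_ne_of_ne e e']; exact hx
        show f _ ∈ B₂; rw [f1 _ this]; exact (φ _).2
      · rw [Perm.mul_apply, swap_apply_of_ne_of_ne (fun e => hd u hu (by rw [← e]; exact hx))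
          (fun e => hd v hv (by rw [← e]; exact hx))]
        show f x ∈ B₁; rw [f2 x hx]; exact (φ.symm _).2
      · rw [Perm.mul_apply, swap_apply_of_ne_of_ne (fun e => hx (by rw [e]; exact hu))
          (fun e => hx (by rw [e]; exact hv))]
        exact f3 x hx hx'
  have hgB1 : g '' B₁ = B₂ := Set.eq_of_subset_of_ncard_le
    (by rintro _ ⟨x, hx, rfl⟩; exact hgB x hx)
    (by rw [Set.ncard_image_of_injective _ g.injective, hcard])
  refine ⟨g, mem_partStab hg fun C hC => ?_, hgB1, hgfix.2⟩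
  by_cases e1 : C = B₁
  · rw [e1, hgB1]; exact h₂
  by_cases e2 : C = B₂
  · have himg : g '' B₂ = B₁ := Set.eq_of_subset_of_ncard_le
      (by rintro _ ⟨x, hx, rfl⟩; exact hgfix.1 x hx)
      (by rw [Set.ncard_image_of_injective _ g.injective, hcard])
    rw [e2, himg]
    exact h₁
  · rw [Set.image_congr fun x hx => hgfix.2 x (fun hx' => e1 (h.eq hC hx h₁ hx'))
      (fun hx' => e2 (h.eq hC hx h₂ hx')), Set.image_id']
    exact hC

/-- Nested systems: the two stabilizers generate. -/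
theorem sup_eq_alt_nested {𝔄 𝔅 : Set (Set α)} (hA : IsPart 𝔄) (hB : IsPart 𝔅)
    (hsize : ∀ C ∈ 𝔄, 3 ≤ C.ncard) (href : ∀ B ∈ 𝔅, ∃ C ∈ 𝔄, B ⊆ C) (m : ℕ) (hm : 2 ≤ m)
    (hBm : ∀ B ∈ 𝔅, B.ncard = m) {P : Set α} (hP : P ∈ 𝔄) (hPm : m < P.ncard) :
    alternatingGroup α ≤ partStab 𝔄 ⊔ partStab 𝔅 := by
  set H := partStab 𝔄 ⊔ partStab 𝔅
  have hgoodA : ∀ C ∈ 𝔄, Good H C := fun C hC x hx y hy z hz h1 h2 h3 =>
    (le_sup_left : partStab 𝔄 ≤ H) (hA.good hC x hx y hy z hz h1 h2 h3)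
  obtain ⟨T, hPT, hTgood, hT⟩ := exists_good_union (hgoodA P hP) (hsize P hP)
  have hall : ∀ x, x ∈ T := by
    intro x
    by_contra hxT
    obtain ⟨Q, ⟨hQ, hxQ⟩, -⟩ := hA x
    obtain ⟨B₂, ⟨hB₂, hxB₂⟩, -⟩ := hB x
    obtain ⟨p, hp⟩ := Set.nonempty_of_ncard_ne_zero (s := P) (by omega)
    obtain ⟨B₁, ⟨hB₁, hpB₁⟩, -⟩ := hB p
    obtain ⟨C, hC, hB₁C⟩ := href B₁ hB₁
    have hB₁P : B₁ ⊆ P := (hA.eq hC (hB₁C hpB₁) hP hp) ▸ hB₁C
    have hne : B₁ ≠ B₂ := fun e => hxT (hPT (hB₁P (e ▸ hxB₂)))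
    obtain ⟨g, hg, hgB, hgfix⟩ := hB.exists_exchange hB₁ hB₂ hne
      ((hBm _ hB₁).trans (hBm _ hB₂).symm) (by rw [hBm _ hB₁]; exact hm)
    have hgood : Good H (g '' P) := by
      rintro _ ⟨u, hu, rfl⟩ _ ⟨v, hv, rfl⟩ _ ⟨w, hw, rfl⟩ h1 h2 h3
      rw [← tri_conj']
      exact H.mul_mem (H.mul_mem ((le_sup_right : partStab 𝔅 ≤ H) hg)
        (hgoodA P hP u hu v hv w hw (fun e => h1 (congrArg g e)) (fun e => h2 (congrArg g e))
          (fun e => h3 (congrArg g e)))) (H.inv_mem ((le_sup_right : partStab 𝔅 ≤ H) hg))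
    obtain ⟨r, hr, hrn⟩ := Set.exists_mem_notMem_of_ncard_lt_ncard (s := B₁) (t := P)
      (by rw [hBm _ hB₁]; exact hPm)
    have hrB₂ : r ∉ B₂ := by
      intro h'
      obtain ⟨C₂, hC₂, hB₂C⟩ := href B₂ hB₂
      exact hxT (hPT ((hA.eq hC₂ (hB₂C h') hP hr) ▸ hB₂C hxB₂))
    have hsub := hT _ hgood (by rw [Set.ncard_image_of_injective _ g.injective]; exact hsize P hP)
      ⟨r, hPT hr, r, hr, hgfix r hrn hrB₂⟩
    obtain ⟨u, hu, hux⟩ := hgB.symm.le hxB₂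
    exact hxT (hsub ⟨u, hB₁P hu, hux⟩)
  obtain ⟨p, hp, q, hq, hpq⟩ := (Set.one_lt_ncard (s := P)).1
    (show 1 < P.ncard from lt_of_lt_of_le (by norm_num) (hsize P hP))
  exact (alt_le_closure_tri hpq).trans ((Subgroup.closure_le _).2 (by
    rintro _ ⟨i, hip, hiq, rfl⟩
    exact hTgood p (hall p) q (hall q) i (hall i) hpq hip.symm hiq.symm))

/-- Two sets with big complements: the two stabilizers generate. -/
theorem sup_eq_alt_compl {O₁ O₃ : Set α} (hd : ∀ x, x ∈ O₁ → x ∉ O₃) (hmid : ∃ a, a ∉ O₁ ∧ a ∉ O₃)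
    (h₁ : 3 ≤ O₁ᶜ.ncard) (h₃ : 3 ≤ O₃ᶜ.ncard) (hp₁ : IsPart ({O₁, O₁ᶜ} : Set (Set α)))
    (hp₃ : IsPart ({O₃, O₃ᶜ} : Set (Set α))) :
    alternatingGroup α ≤ partStab ({O₁, O₁ᶜ} : Set (Set α)) ⊔ partStab ({O₃, O₃ᶜ} : Set (Set α)) := by
  set H := partStab ({O₁, O₁ᶜ} : Set (Set α)) ⊔ partStab ({O₃, O₃ᶜ} : Set (Set α))
  have g1 : Good H O₁ᶜ := fun x hx y hy z hz a b c =>
    (le_sup_left : _ ≤ H) (hp₁.good (Or.inr rfl) x hx y hy z hz a b c)
  have g3 : Good H O₃ᶜ := fun x hx y hy z hz a b c =>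
    (le_sup_right : _ ≤ H) (hp₃.good (Or.inr rfl) x hx y hy z hz a b c)
  obtain ⟨T, hsub, hTgood, hT⟩ := exists_good_union g1 h₁
  obtain ⟨a, ha1, ha3⟩ := hmid
  have h3T := hT _ g3 h₃ ⟨a, hsub ha1, ha3⟩
  have hall : ∀ x, x ∈ T := fun x => by
    by_cases hx : x ∈ O₁
    · exact h3T (hd x hx)
    · exact hsub hx
  obtain ⟨p, -, q, -, hpq⟩ := (Set.one_lt_ncard (s := O₁ᶜ)).1 (by omega)
  exact (alt_le_closure_tri hpq).trans ((Subgroup.closure_le _).2 (by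
    rintro _ ⟨i, hip, hiq, rfl⟩
    exact hTgood p (hall p) q (hall q) i (hall i) hpq hip.symm hiq.symm))

end Cfsg.Agent.Lib.LAEven56.ThreeMinAlt
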