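/-
Three-minimal alternating groups.
-/
import Mathlib
import Cfsg.Prelude.Def_LocalEven
import Cfsg.Agent.Lib.LAEven56.ThreeMinAlt.Basic
import Cfsg.Agent.Lib.Components.GenFitting
import Cfsg.Agent.Lib.Fgs9.AlternatingSylow

set_option autoImplicit false
set_option linter.style.haveILetI false

namespace Cfsg.Agent.Lib.LAEven56.ThreeMinAlt

open Equiv

variable {α : Type*} [Fintype α] [DecidableEq α]

theorem isPart_compl (O : Set α) : IsPart ({O, Oᶜ} : Set (Set α)) := by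
  intro x
  by_cases hx : x ∈ O
  · refine ⟨O, ⟨Or.inl rfl, hx⟩, ?_⟩
    rintro B ⟨hB | hB, hxB⟩
    · exact hB
    · rw [Set.mem_singleton_iff.1 hB] at hxB; exact absurd hx hxB
  · refine ⟨Oᶜ, ⟨Or.inr rfl, hx⟩, ?_⟩
    rintro B ⟨hB | hB, hxB⟩
    · rw [hB] at hxB; exact absurd hxB hx
    · exact hB

variable (S : Subgroup (Perm α))

theorem orbit_image (x : α) {s : Perm α} (hs : s ∈ S) : s '' MulAction.orbit S x = MulAction.orbit S x := by
  refine Set.eq_of_subset_of_ncard_le ?_ (Set.ncard_image_of_injective _ s.injective).ge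
  rintro _ ⟨y, ⟨t, rfl⟩, rfl⟩
  exact ⟨⟨s, hs⟩ * t, rfl⟩

theorem ncard_orbit (hS : IsPGroup 3 S) (x : α) :
    ∃ a, (MulAction.orbit S x).ncard = 3 ^ a := by
  haveI : Fact (Nat.Prime 3) := ⟨Nat.prime_three⟩
  obtain ⟨a, ha⟩ := hS.card_orbit x
  exact ⟨a, by rw [← Nat.card_coe_set_eq, ha]⟩

/-- The translates of an orbit of a subgroup containing the stabilizer. -/
def translates (x : α) (K : Subgroup S) : Set (Set α) :=
  {B | ∃ s : S, B = (s : Perm α) '' MulAction.orbit K x}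

theorem translates_unique {x : α} {K : Subgroup S} (hK : MulAction.stabilizer S x ≤ K) {y : α}
    {B B' : Set α} (hB : B ∈ translates S x K) (hy : y ∈ B) (hB' : B' ∈ translates S x K)
    (hy' : y ∈ B') : B = B' := by
  obtain ⟨s, rfl⟩ := hB
  obtain ⟨t, rfl⟩ := hB'
  obtain ⟨_, ⟨k, rfl⟩, hk⟩ := hy
  obtain ⟨_, ⟨k', rfl⟩, hk'⟩ := hy'
  have hmem : (t * (k' : S))⁻¹ * (s * (k : S)) ∈ K := by
    refine hK (MulAction.mem_stabilizer_iff.2 ?_)
    rw [mul_smul, inv_smul_eq_iff]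
    exact hk.trans hk'.symm
  have hst : t⁻¹ * s ∈ K := by
    have := K.mul_mem (K.mul_mem k'.2 hmem) (K.inv_mem k.2)
    rwa [show (k' : S) * ((t * (k' : S))⁻¹ * (s * (k : S))) * (k : S)⁻¹ = t⁻¹ * s by group] at this
  ext z
  constructor
  · rintro ⟨_, ⟨l, rfl⟩, rfl⟩
    refine ⟨_, ⟨⟨t⁻¹ * s, hst⟩ * l, rfl⟩, ?_⟩
    show (t : Perm α) ((t : Perm α)⁻¹ ((s : Perm α) (l • x))) = _
    simp
  · rintro ⟨_, ⟨l, rfl⟩, rfl⟩
    refine ⟨_, ⟨⟨t⁻¹ * s, hst⟩⁻¹ * l, rfl⟩, ?_⟩
    show (s : Perm α) (((t : Perm α)⁻¹ * (s : Perm α))⁻¹ (l • x)) = _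
    simp

theorem translates_cover {x : α} {K : Subgroup S} {y : α} (hy : y ∈ MulAction.orbit S x) :
    ∃ B ∈ translates S x K, y ∈ B := by
  obtain ⟨s, rfl⟩ := hy
  exact ⟨_, ⟨s, rfl⟩, x, MulAction.mem_orbit_self x, rfl⟩

theorem translates_image {x : α} {K : Subgroup S} {B : Set α} (hB : B ∈ translates S x K)
    {s : Perm α} (hs : s ∈ S) : s '' B ∈ translates S x K := by
  obtain ⟨t, rfl⟩ := hB
  exact ⟨⟨s, hs⟩ * t, by rw [← Set.image_comp]; rfl⟩

theorem translates_subset {x : α} {K : Subgroup S} {B : Set α} (hB : B ∈ translates S x K) :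
    B ⊆ MulAction.orbit S x := by
  obtain ⟨t, rfl⟩ := hB
  rintro _ ⟨_, ⟨l, rfl⟩, rfl⟩
  exact ⟨t * (l : S), rfl⟩

/-- A subgroup above a given one whose orbit has prescribed three-power size. -/
theorem exists_overgroup (hS : IsPGroup 3 S) (x : α) {a c : ℕ}
    (ha : (MulAction.orbit S x).ncard = 3 ^ a) (hca : c ≤ a) {H : Subgroup S}
    (hH : MulAction.stabilizer S x ≤ H) {b : ℕ} (hb : (MulAction.orbit H x).ncard = 3 ^ b)
    (hbc : b ≤ c) : ∃ K : Subgroup S, H ≤ K ∧ (MulAction.orbit K x).ncard = 3 ^ c := by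
  haveI : Fact (Nat.Prime 3) := ⟨Nat.prime_three⟩
  set St := MulAction.stabilizer S x
  obtain ⟨d, hd⟩ := (hS.to_subgroup St).exists_card_eq
  have hcardK : ∀ K : Subgroup S, St ≤ K → Nat.card K = (MulAction.orbit K x).ncard * 3 ^ d := by
    intro K hK
    rw [← Nat.card_coe_set_eq, Nat.card_congr (MulAction.orbitEquivQuotientStabilizer K x),
      ← Subgroup.index_eq_card, ← hd]
    have hst : MulAction.stabilizer K x = St.subgroupOf K := by ext k; rfl
    rw [← (MulAction.stabilizer K x).card_mul_index, mul_comm, hst,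
      Nat.card_congr (Subgroup.subgroupOfEquivOfLe hK).toEquiv]
  have hS' : Nat.card S = 3 ^ (a + d) := by
    rw [← Nat.card_congr (Subgroup.topEquiv (G := S)).toEquiv, hcardK ⊤ le_top, pow_add]
    congr 1
    rw [← ha]
    congr 1
    ext y
    exact ⟨fun ⟨k, hk⟩ => ⟨k, hk⟩, fun ⟨k, hk⟩ => ⟨⟨k, trivial⟩, hk⟩⟩
  obtain ⟨K, hK, hHK⟩ := Sylow.exists_subgroup_card_pow_prime_le 3 (n := b + d) (m := c + d)
    (hS' ▸ Nat.pow_dvd_pow 3 (by omega)) H (by rw [hcardK H hH, hb, pow_add]) (by omega)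
  refine ⟨K, hHK, ?_⟩
  have := hcardK K (hH.trans hHK)
  rw [hK, pow_add] at this
  exact (Nat.eq_of_mul_eq_mul_right (by positivity) this).symm

theorem ncard_orbit_stabilizer (x : α) :
    (MulAction.orbit (MulAction.stabilizer S x) x).ncard = 3 ^ 0 := by
  have : MulAction.orbit (MulAction.stabilizer S x) x = {x} := by
    refine Set.eq_singleton_iff_unique_mem.2 ⟨MulAction.mem_orbit_self x, ?_⟩
    rintro _ ⟨s, rfl⟩
    exact s.2
  rw [this, Set.ncard_singleton, pow_zero]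

/-- The dichotomy: an exceptional degree, or two proper overgroups generating `A_n`. -/
theorem exists_two (h5 : 5 ≤ Nat.card α) (hS : IsPGroup 3 S) (hSA : S ≤ alternatingGroup α) :
    (Nat.card α = 6 ∨ Nat.card α = 9 ∨ ∃ a, 2 ≤ a ∧ Nat.card α = 3 ^ a + 1) ∨
      ∃ M₁ M₂ : Subgroup (Perm α), S ≤ M₁ ∧ S ≤ M₂ ∧ M₁ ≤ alternatingGroup α ∧
        M₂ ≤ alternatingGroup α ∧ ¬ alternatingGroup α ≤ M₁ ∧ ¬ alternatingGroup α ≤ M₂ ∧
        alternatingGroup α ≤ M₁ ⊔ M₂ := by
  haveI : Nonempty α := (Nat.card_pos_iff.1 (by omega)).1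
  set O : α → Set α := fun x => MulAction.orbit S x with hOdef
  have hOmem : ∀ x, x ∈ O x := fun x => MulAction.mem_orbit_self x
  have hOeq : ∀ x y, y ∈ O x → O y = O x := fun x y h => MulAction.orbit_eq_iff.2 h
  have hOd : ∀ x y z, z ∈ O x → z ∈ O y → O x = O y := fun x y z h h' =>
    (hOeq x z h).symm.trans (hOeq y z h')
  obtain ⟨x₁, hx₁max⟩ := Finite.exists_max fun x => (O x).ncard
  have hcomplStab : ∀ x, S ≤ partStab ({O x, (O x)ᶜ} : Set (Set α)) := fun x s hs => by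
    refine mem_partStab (hSA hs) ?_
    rintro B (rfl | hB)
    · rw [orbit_image S x hs]; exact Or.inl rfl
    · rw [Set.mem_singleton_iff.1 hB, Set.image_compl_eq s.bijective, orbit_image S x hs]
      exact Or.inr rfl
  have hpos : ∀ x, 1 ≤ (O x).ncard := fun x => (Set.ncard_pos).2 ⟨x, hOmem x⟩
  have hcompl : ∀ x, (O x)ᶜ.ncard + (O x).ncard = Nat.card α := fun x => by
    rw [add_comm]; exact Set.ncard_add_ncard_compl (O x)
  by_cases h3 : ∃ y z, y ∉ O x₁ ∧ z ∉ O x₁ ∧ O y ≠ O z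
  · right
    obtain ⟨y, z, hy, hz, hyz⟩ := h3
    have hdyz : ∀ u, u ∈ O y → u ∉ O z := fun u h h' => hyz (hOd _ _ _ h h')
    have hdy : ∀ u, u ∈ O x₁ → u ∉ O y := fun u h h' => hy (hOd x₁ y u h h' ▸ hOmem y)
    have hdz : ∀ u, u ∈ O x₁ → u ∉ O z := fun u h h' => hz (hOd x₁ z u h h' ▸ hOmem z)
    have hbig : ∀ u w, (∀ v, v ∈ O x₁ → v ∉ O u) → (∀ v, v ∈ O w → v ∉ O u) →
        (∀ v, v ∈ O x₁ → v ∉ O w) → 3 ≤ (O u)ᶜ.ncard := by
      intro u w hu hw hxw
      have h1 : (O x₁ ∪ O w).ncard ≤ (O u)ᶜ.ncard := Set.ncard_le_ncard (by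
        rintro v (hv | hv)
        exacts [hu v hv, hw v hv])
      rw [Set.ncard_union_eq (Set.disjoint_left.2 hxw)] at h1
      have := hpos w
      have := hcompl u
      have := hx₁max u
      omega
    have hby := hbig y z hdy (fun v hv hv' => hdyz v hv' hv) hdz
    have hbz := hbig z y hdz hdyz hdy
    have hprop : ∀ u, 3 ≤ (O u)ᶜ.ncard → ¬ alternatingGroup α ≤ partStab ({O u, (O u)ᶜ} : Set (Set α)) :=
      fun u h => (isPart_compl _).ne_alt (by omega) (B := (O u)ᶜ) (Or.inr rfl) (by omega)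
        (fun e => by have := e.symm.le (Set.mem_univ u); exact this (hOmem u))
    exact ⟨_, _, hcomplStab y, hcomplStab z, fun g hg => hg.1, fun g hg => hg.1, hprop y hby,
      hprop z hbz, sup_eq_alt_compl hdyz ⟨x₁, hdy x₁ (hOmem x₁), hdz x₁ (hOmem x₁)⟩ hby hbz
        (isPart_compl _) (isPart_compl _)⟩
  push Not at h3
  obtain ⟨a, ha⟩ := ncard_orbit S hS x₁
  have hstabfam : ∀ (x : α) (K : Subgroup S) (s : Perm α), s ∈ S → ∀ B ∈ translates S x K,
      s '' B ∈ translates S x K := fun x K s hs B hB => translates_image S hB hs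
  have hsize : ∀ (x : α) (K : Subgroup S) (B : Set α), B ∈ translates S x K →
      B.ncard = (MulAction.orbit K x).ncard := by
    rintro x K B ⟨s, rfl⟩
    exact Set.ncard_image_of_injective _ (s : Perm α).injective
  by_cases htr : ∀ y, y ∈ O x₁
  · -- transitive
    have hn : Nat.card α = 3 ^ a := by
      rw [← ha, ← Set.ncard_univ]
      congr 1
      exact (Set.eq_univ_of_forall htr).symm
    have ha2 : 2 ≤ a := by
      by_contra h
      have : a = 0 ∨ a = 1 := by omega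
      rcases this with h' | h' <;> subst h' <;> simp only [pow_zero, pow_one] at hn <;> omega
    by_cases ha3 : a = 2
    · left; right; left; rw [hn, ha3]; norm_num
    right
    obtain ⟨K₁, hK₁, hc₁⟩ := exists_overgroup S hS x₁ (c := 1) ha (by omega) le_rfl
      (ncard_orbit_stabilizer S x₁) (by omega)
    obtain ⟨K₂, hK₂, hc₂⟩ := exists_overgroup S hS x₁ (c := a - 1) ha (by omega) hK₁ hc₁ (by omega)
    have hpart : ∀ K : Subgroup S, MulAction.stabilizer S x₁ ≤ K → IsPart (translates S x₁ K) := by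
      intro K hK y
      obtain ⟨B, hB, hy⟩ := translates_cover S (K := K) (htr y)
      exact ⟨B, ⟨hB, hy⟩, fun B' h' => translates_unique S hK h'.1 h'.2 hB hy⟩
    have hA := hpart K₂ (hK₁.trans hK₂)
    have hB := hpart K₁ hK₁
    have hP : MulAction.orbit K₂ x₁ ∈ translates S x₁ K₂ := ⟨1, by simp⟩
    have hP' : MulAction.orbit K₁ x₁ ∈ translates S x₁ K₁ := ⟨1, by simp⟩
    have hpow : 3 ^ 2 ≤ 3 ^ (a - 1) := Nat.pow_le_pow_right (by norm_num) (by omega)
    have hlt : 3 ^ (a - 1) < 3 ^ a := Nat.pow_lt_pow_right (by norm_num) (by omega)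
    norm_num at hpow
    refine ⟨partStab (translates S x₁ K₂), partStab (translates S x₁ K₁),
      fun s hs => mem_partStab (hSA hs) (hstabfam _ _ s hs),
      fun s hs => mem_partStab (hSA hs) (hstabfam _ _ s hs), fun g hg => hg.1, fun g hg => hg.1,
      hA.ne_alt (by omega) hP (by rw [hc₂]; omega)
        (fun e => by rw [e, Set.ncard_univ, hn] at hc₂; omega),
      hB.ne_alt (by omega) hP' (by rw [hc₁]; norm_num)
        (fun e => by rw [e, Set.ncard_univ, hn] at hc₁; omega), ?_⟩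
    refine sup_eq_alt_nested hA hB (fun C hC => by rw [hsize _ _ _ hC, hc₂]; omega) ?_ 3 (by norm_num)
      (fun B hB => by rw [hsize _ _ _ hB, hc₁, pow_one]) hP (by rw [hc₂]; omega)
    rintro B ⟨s, rfl⟩
    refine ⟨_, ⟨s, rfl⟩, Set.image_mono ?_⟩
    rintro _ ⟨k, rfl⟩
    exact ⟨⟨k, hK₂ k.2⟩, rfl⟩
  -- two orbits
  push Not at htr
  obtain ⟨x₂, hx₂⟩ := htr
  obtain ⟨b, hb⟩ := ncard_orbit S hS x₂
  have hd : ∀ u, u ∈ O x₁ → u ∉ O x₂ := fun u h h' => hx₂ (hOd x₁ x₂ u h h' ▸ hOmem x₂)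
  have hcov : ∀ u, u ∈ O x₁ ∨ u ∈ O x₂ := fun u =>
    or_iff_not_imp_left.2 fun hu => (h3 u x₂ hu hx₂) ▸ hOmem u
  have hn : Nat.card α = 3 ^ a + 3 ^ b := by
    rw [← ha, ← hb, ← Set.ncard_univ, ← Set.ncard_union_eq (Set.disjoint_left.2 hd)]
    congr 1
    exact (Set.eq_univ_of_forall hcov).symm
  have hba : b ≤ a := by
    have := hx₁max x₂
    simp only [hOdef] at this
    rw [ha, hb] at this
    exact (Nat.pow_le_pow_iff_right (by norm_num)).1 this
  by_cases hb0 : b = 0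
  · left; right; right
    refine ⟨a, ?_, by rw [hn, hb0, pow_zero]⟩
    by_contra h
    have : a = 0 ∨ a = 1 := by omega
    rcases this with h' | h' <;> subst h' <;> subst hb0 <;> simp only [pow_zero, pow_one] at hn <;> omega
  by_cases h11 : a = 1
  · left; left; rw [hn, h11, show b = 1 by omega]; norm_num
  right
  obtain ⟨c, hc1, hcb, hca⟩ : ∃ c, 1 ≤ c ∧ c ≤ b ∧ c < a := by
    rcases lt_or_eq_of_le hba with h | h
    · exact ⟨b, by omega, le_rfl, h⟩
    · exact ⟨a - 1, by omega, by omega, by omega⟩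
  obtain ⟨K₁, hK₁, hc₁⟩ := exists_overgroup S hS x₁ (c := c) ha hca.le le_rfl
    (ncard_orbit_stabilizer S x₁) (Nat.zero_le _)
  obtain ⟨K₂, hK₂, hc₂⟩ := exists_overgroup S hS x₂ (c := c) hb hcb le_rfl
    (ncard_orbit_stabilizer S x₂) (Nat.zero_le _)
  set 𝔅 := translates S x₁ K₁ ∪ translates S x₂ K₂
  have hBpart : IsPart 𝔅 := by
    intro y
    have hsep : ∀ B ∈ translates S x₁ K₁, ∀ B' ∈ translates S x₂ K₂, y ∈ B → y ∈ B' → False :=
      fun B hB B' hB' h h' => hd y (translates_subset S hB h) (translates_subset S hB' h')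
    rcases hcov y with h | h
    · obtain ⟨B, hB, hy⟩ := translates_cover S (K := K₁) h
      refine ⟨B, ⟨Or.inl hB, hy⟩, ?_⟩
      rintro B' ⟨hB' | hB', hy'⟩
      · exact translates_unique S hK₁ hB' hy' hB hy
      · exact (hsep B hB B' hB' hy hy').elim
    · obtain ⟨B, hB, hy⟩ := translates_cover S (K := K₂) h
      refine ⟨B, ⟨Or.inr hB, hy⟩, ?_⟩
      rintro B' ⟨hB' | hB', hy'⟩
      · exact (hsep B' hB' B hB hy' hy).elim
      · exact translates_unique S hK₂ hB' hy' hB hy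
  have hBstab : S ≤ partStab 𝔅 := fun s hs => mem_partStab (hSA hs) fun B hB =>
    hB.imp (hstabfam _ _ s hs B) (hstabfam _ _ s hs B)
  have hBm : ∀ B ∈ 𝔅, B.ncard = 3 ^ c := by
    rintro B (hB | hB)
    · rw [hsize _ _ _ hB, hc₁]
    · rw [hsize _ _ _ hB, hc₂]
  have hO2 : (O x₁)ᶜ = O x₂ :=
    Set.ext fun u => ⟨fun hu => (hcov u).resolve_left hu, fun hu h => hd u h hu⟩
  have hpb : 3 ^ 1 ≤ 3 ^ b := Nat.pow_le_pow_right (by norm_num) (by omega)
  have hpa : 3 ^ b ≤ 3 ^ a := Nat.pow_le_pow_right (by norm_num) hba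
  have hpc : 3 ^ 1 ≤ 3 ^ c := Nat.pow_le_pow_right (by norm_num) hc1
  have hlt : 3 ^ c < 3 ^ a := Nat.pow_lt_pow_right (by norm_num) hca
  norm_num at hpb hpc
  refine ⟨partStab ({O x₁, (O x₁)ᶜ} : Set (Set α)), partStab 𝔅, hcomplStab x₁, hBstab,
    fun g hg => hg.1, fun g hg => hg.1,
    (isPart_compl _).ne_alt (by omega) (B := O x₁) (Or.inl rfl)
      (by simp only [hOdef]; rw [ha]; omega) (fun e => hx₂ (e ▸ Set.mem_univ x₂)),
    hBpart.ne_alt (by omega) (B := MulAction.orbit K₁ x₁) (Or.inl ⟨1, by simp⟩)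
      (by rw [hc₁]; omega) (fun e => hx₂ (translates_subset S (x := x₁) (K := K₁) ⟨1, by simp⟩
        (e ▸ Set.mem_univ x₂))), ?_⟩
  refine sup_eq_alt_nested (isPart_compl _) hBpart ?_ ?_ (3 ^ c) (by omega) hBm (P := O x₁)
    (Or.inl rfl) (by simp only [hOdef]; rw [ha]; exact hlt)
  · rintro C (rfl | hC)
    · rw [ha]; omega
    · rw [Set.mem_singleton_iff.1 hC, hO2, hb]; omega
  · rintro B (hB | hB)
    · exact ⟨_, Or.inl rfl, translates_subset S hB⟩
    · exact ⟨_, Or.inr rfl, hO2.symm ▸ translates_subset S hB⟩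

end Cfsg.Agent.Lib.LAEven56.ThreeMinAlt

namespace Cfsg.Agent.Lib.LAEven56.ThreeMinAlt

open Equiv

/-- The classification of the three-minimal groups with alternating generalized Fitting subgroup. -/
theorem pminimal_cases {X : Type*} [Group X] [Finite X] (hX : Cfsg.IsPMinimal 3 X) (n : ℕ)
    (hn : 5 ≤ n) (e : ↥(Cfsg.generalizedFittingSubgroup X) ≃* ↥(alternatingGroup (Fin n))) :
    Cfsg.generalizedFittingSubgroup X = ⊤ ∧ (n = 6 ∨ n = 9 ∨ ∃ a : ℕ, 2 ≤ a ∧ n = 3 ^ a + 1) := by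
  classical
  haveI : Fact (Nat.Prime 3) := ⟨Nat.prime_three⟩
  set N := Cfsg.generalizedFittingSubgroup X
  haveI : N.Normal := inferInstance
  have h4 : 4 ≤ Fintype.card (Fin n) := by rw [Fintype.card_fin]; omega
  have hinj := Cfsg.Agent.Lib.Alternating.conjNormal_injective (α := Fin n) h4
  let φ : X →* MulAut (alternatingGroup (Fin n)) :=
    (MulAut.congr e).toMonoidHom.comp MulAut.conjNormal
  have hφ : ∀ (x : X) (m : N), φ x (e m) = e ⟨x * m * x⁻¹, Subgroup.Normal.conj_mem inferInstance _ m.2 x⟩ := by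
    intro x m
    show e (MulAut.conjNormal x (e.symm (e m))) = _
    rw [e.symm_apply_apply]
    exact congrArg e (Subtype.ext (MulAut.conjNormal_apply x m))
  have hφN : ∀ (m : N), φ m = MulAut.conj (e m) := by
    intro m
    refine MulEquiv.ext fun a => ?_
    obtain ⟨k, rfl⟩ := e.surjective a
    rw [hφ, MulAut.conj_apply, ← map_inv, ← map_mul, ← map_mul]
    rfl
  have hφinj : Function.Injective φ := by
    refine (injective_iff_map_eq_one φ).2 fun x hx => ?_
    have hxC : x ∈ Subgroup.centralizer (N : Set X) := by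
      rw [Subgroup.mem_centralizer_iff]
      intro m hm
      have h1 := hφ x ⟨m, hm⟩
      rw [hx, MulAut.one_apply] at h1
      have := congrArg Subtype.val (e.injective h1)
      simp only at this
      exact (mul_inv_eq_iff_eq_mul.1 this.symm).symm
    have hxN : x ∈ N := Cfsg.Agent.Lib.Components.GenFitting.centralizer_le hxC
    have h2 := hφN ⟨x, hxN⟩
    rw [hx] at h2
    have h3 : (e ⟨x, hxN⟩ : Perm (Fin n)) = 1 := by
      refine hinj ?_
      rw [map_one]
      refine MulEquiv.ext fun a => Subtype.ext ?_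
      rw [MulAut.conjNormal_apply]
      exact congrArg Subtype.val (MulEquiv.ext_iff.1 h2.symm a)
    have h4' : (⟨x, hxN⟩ : N) = 1 := (map_eq_one_iff e e.injective).1 (Subtype.ext h3)
    exact congrArg Subtype.val h4'
  -- the elements of three-power order lie in `N`
  have hthree : ∀ (x : X) (k : ℕ), x ^ 3 ^ k = 1 → x ∈ N := by
    intro x k hk
    have hodd : Odd (orderOf (φ x)) := by
      have h1 : orderOf (φ x) ∣ 3 ^ k := orderOf_dvd_of_pow_eq_one (by rw [← map_pow, hk, map_one])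
      obtain ⟨j, -, hj⟩ := (Nat.dvd_prime_pow Nat.prime_three).1 h1
      rw [hj]
      exact Odd.pow (by decide)
    obtain ⟨σ, hσ⟩ := Cfsg.Agent.Lib.Fgs9.AlternatingSylow.exists_conjNormal_of_odd hn (φ x) hodd
    have hord : orderOf σ = orderOf (φ x) := by
      rw [← hσ, orderOf_injective _ hinj]
    have hs : σ ∈ alternatingGroup (Fin n) := by
      rw [Perm.mem_alternatingGroup]
      rcases Int.units_eq_one_or (Perm.sign σ) with h | h
      · exact h
      · exfalso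
        have h1 := congrArg Perm.sign (pow_orderOf_eq_one σ)
        rw [map_pow, map_one, h, hord, hodd.neg_one_pow] at h1
        exact absurd h1 (by decide)
    have hx : x = (e.symm ⟨σ, hs⟩ : X) := by
      apply hφinj
      rw [hφN, MulEquiv.apply_symm_apply, ← hσ]
      exact MulEquiv.ext fun a => Subtype.ext (MulAut.conjNormal_apply σ a)
    rw [hx]; exact SetLike.coe_mem _
  obtain ⟨S⟩ : Nonempty (Sylow 3 X) := inferInstance
  obtain ⟨hSn, M, ⟨hM, hSM⟩, huniq⟩ := hX S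
  have hSN : (S : Subgroup X) ≤ N := fun x hx => by
    obtain ⟨k, hk⟩ := S.2 ⟨x, hx⟩
    exact hthree x k (congrArg Subtype.val hk)
  have hover : ∀ K : Subgroup X, (S : Subgroup X) ≤ K → K ≠ ⊤ → K ≤ M := by
    intro K hSK hK
    obtain ⟨C, hC, hKC⟩ := (eq_top_or_exists_le_coatom K).resolve_left hK
    exact huniq C ⟨hC, hSK.trans hKC⟩ ▸ hKC
  have htop : N = ⊤ := by
    by_contra hne
    have h1 : N ≤ M := hover N hSN hne
    have h2 : Subgroup.normalizer ((S : Subgroup X) : Set X) ≤ M :=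
      hover _ Subgroup.le_normalizer (fun h => hSn (Subgroup.normalizer_eq_top_iff.1 h))
    refine hM.1 (top_le_iff.1 ?_)
    rw [← Sylow.normalizer_sup_eq_top (S.subtype hSN)]
    rw [Sylow.coe_subtype, Subgroup.map_subgroupOf_eq_of_le hSN]
    exact sup_le h2 h1
  refine ⟨htop, ?_⟩
  -- transfer to the alternating group
  set e' : X ≃* alternatingGroup (Fin n) :=
    (Subgroup.topEquiv.symm.trans (MulEquiv.subgroupCongr htop.symm)).trans e
  let ι : X →* Perm (Fin n) := (alternatingGroup (Fin n)).subtype.comp e'.toMonoidHom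
  have hι : Function.Injective ι := Subtype.val_injective.comp e'.injective
  have hrange : ι.range = alternatingGroup (Fin n) := by
    rw [MonoidHom.range_comp, MonoidHom.range_eq_top.2 e'.surjective, ← MonoidHom.range_eq_map,
      Subgroup.range_subtype]
  rcases exists_two ((S : Subgroup X).map ι) (by rw [Nat.card_fin]; exact hn) (S.2.map ι)
      (hrange ▸ Subgroup.map_le_range ι _) with h | ⟨M₁, M₂, h1, h2, hA1, hA2, hn1, hn2, hgen⟩
  · rwa [Nat.card_fin] at h
  exfalso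
  have hcomap : ∀ K : Subgroup (Perm (Fin n)), (S : Subgroup X).map ι ≤ K →
      ¬ alternatingGroup (Fin n) ≤ K → K.comap ι ≤ M := by
    intro K hK hnK
    refine hover _ (Subgroup.map_le_iff_le_comap.1 hK) fun htopK => hnK ?_
    rw [← hrange, MonoidHom.range_eq_map, Subgroup.map_le_iff_le_comap, htopK]
  refine hM.1 (top_le_iff.1 ?_)
  have hsup : (M₁.comap ι ⊔ M₂.comap ι).map ι = M₁ ⊔ M₂ := by
    rw [Subgroup.map_sup, Subgroup.map_comap_eq, Subgroup.map_comap_eq, hrange,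
      inf_eq_right.2 hA1, inf_eq_right.2 hA2]
  intro x _
  have hx : ι x ∈ (M₁.comap ι ⊔ M₂.comap ι).map ι := hsup ▸ hgen (hrange ▸ ⟨x, rfl⟩)
  exact sup_le (hcomap M₁ h1 hn1) (hcomap M₂ h2 hn2) ((Subgroup.mem_map_iff_mem hι).1 hx)

end Cfsg.Agent.Lib.LAEven56.ThreeMinAlt
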